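import Cfsg.Agent.H29.Ward.Pair

/-!
# Ward's theorem: `q = 11` and `q = 13` do not occur

For `|F| ∈ {11, 13}` the torus `K = ⟨k⟩` has order three and the rotor `w` of the four group can
be taken of order three, commuting with `k` and with the inverter `u`.  Then `P = ⟨k, w⟩` is a
Sylow 3-subgroup of `C(k)`, and `k`, `w` generate conjugate subgroups as both centralise an
involution.  Some element normalising `P` interchanges `⟨k⟩` and `⟨w⟩`; a suitable such element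
has a square inverting `k`, so its 2-part has order at least four, against the Sylow
2-subgroups being elementary abelian.
-/

set_option autoImplicit false
set_option linter.unusedSectionVars false
set_option linter.style.haveILetI false

namespace Cfsg.Agent.H35.Ward

open Subgroup Cfsg.Agent Cfsg.Agent.H29.Ward

universe u

variable {G : Type u} [Group G]

theorem isPGroup_zpowers {p e : ℕ} [Fact p.Prime] {x : G} (hx : x ^ p ^ e = 1) :
    IsPGroup p ↥(zpowers x) := by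
  obtain ⟨i, -, hi⟩ := (Nat.dvd_prime_pow Fact.out).1 (orderOf_dvd_of_pow_eq_one hx)
  exact IsPGroup.of_card (n := i) (by rw [Nat.card_zpowers, hi])

theorem three_cases {k x : G} (hk : k ^ 3 = 1) (hx : x ∈ zpowers k) :
    x = 1 ∨ x = k ∨ x = k⁻¹ := by
  obtain ⟨i, rfl⟩ := mem_zpowers_iff.1 hx
  have h3 : k ^ (3 : ℤ) = 1 := by rw [show (3 : ℤ) = ((3 : ℕ) : ℤ) from rfl, zpow_natCast, hk]
  have hi : i = 3 * (i / 3) + i % 3 := (Int.mul_ediv_add_emod i 3).symm
  have he : k ^ i = k ^ (i % 3) := by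
    conv_lhs => rw [hi]
    rw [zpow_add, zpow_mul, h3, one_zpow, one_mul]
  rw [he]
  have hlt : i % 3 = 0 ∨ i % 3 = 1 ∨ i % 3 = 2 := by omega
  rcases hlt with e | e | e <;> rw [e]
  · exact Or.inl (zpow_zero _)
  · exact Or.inr (Or.inl (zpow_one _))
  · exact Or.inr (Or.inr (eq_inv_of_mul_eq_one_left
      (show k ^ (2 : ℤ) * k = 1 by rw [← zpow_add_one]; exact h3)))

theorem eq_one_of_sq_cube {x : G} (h2 : x * x = 1) (h3 : x ^ 3 = 1) : x = 1 := by
  rwa [show (3 : ℕ) = 2 + 1 from rfl, pow_succ, pow_two, h2, one_mul] at h3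

variable [Finite G]

theorem mem_normalizer_of_conj {P : Subgroup G} {x : G} (h : ∀ y ∈ P, x * y * x⁻¹ ∈ P) :
    x ∈ normalizer (P : Set G) := by
  have h2 : P.map (MulAut.conj x).toMonoidHom = P := by
    refine eq_of_le_of_card_ge ?_ (le_of_eq ?_)
    · rintro _ ⟨y, hy, rfl⟩; exact h y hy
    · rw [card_map_of_injective (MulAut.conj x).injective]
  refine mem_normalizer_iff.2 fun y => ⟨h y, fun hy => ?_⟩
  obtain ⟨z, hz, hzy⟩ := h2.ge hy
  have : z = y := by simpa using hzy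
  exact this ▸ hz

/-- A `p`-subgroup of `H` of the largest possible order is only contained in itself. -/
theorem eq_of_pgroup_le {p a : ℕ} [Fact p.Prime] {H P Q : Subgroup G}
    (hP : Nat.card ↥P = p ^ a) (hH : ¬ p ^ (a + 1) ∣ Nat.card ↥H) (hQ : IsPGroup p ↥Q)
    (hQH : Q ≤ H) (hPQ : P ≤ Q) : Q = P := by
  obtain ⟨j, hj⟩ := IsPGroup.iff_card.1 hQ
  have hd : p ^ j ∣ Nat.card ↥H := hj ▸ card_dvd_of_le hQH
  have hja : j ≤ a := by
    by_contra hc
    exact hH ((Nat.pow_dvd_pow p (by omega)).trans hd)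
  refine (eq_of_le_of_card_ge hPQ ?_).symm
  rw [hj, hP]
  exact Nat.pow_le_pow_right (Fact.out : p.Prime).pos hja

/-- A `p`-element of `H` normalising a `p`-subgroup of the largest order lies in it. -/
theorem mem_of_normalizes {p a e : ℕ} [Fact p.Prime] {H P : Subgroup G}
    (hP : Nat.card ↥P = p ^ a) (hH : ¬ p ^ (a + 1) ∣ Nat.card ↥H) (hPH : P ≤ H) {x : G}
    (hx : x ∈ H) (hxe : x ^ p ^ e = 1) (hxN : x ∈ normalizer (P : Set G)) : x ∈ P := by
  have h1 : IsPGroup p ↥(zpowers x ⊔ P) :=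
    IsPGroup.to_sup_of_normal_right' (isPGroup_zpowers hxe) (IsPGroup.of_card hP)
      (zpowers_le.2 hxN)
  have h2 := eq_of_pgroup_le hP hH h1 (sup_le (zpowers_le.2 hx) hPH) le_sup_right
  exact h2.le (mem_sup_left (mem_zpowers x))

/-- Two `p`-subgroups of `H` of the largest order are conjugate in `H`. -/
theorem exists_conj {p a : ℕ} [Fact p.Prime] {H P Q : Subgroup G}
    (hP : Nat.card ↥P = p ^ a) (hQ : Nat.card ↥Q = p ^ a) (hH : ¬ p ^ (a + 1) ∣ Nat.card ↥H)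
    (hPH : P ≤ H) (hQH : Q ≤ H) : ∃ c ∈ H, ∀ x ∈ P, c * x * c⁻¹ ∈ Q := by
  have key : ∀ R : Subgroup G, Nat.card ↥R = p ^ a → R ≤ H →
      ∃ S : Sylow p ↥H, (S : Subgroup ↥H) = R.subgroupOf H := by
    intro R hR hRH
    have hc : Nat.card ↥(R.subgroupOf H) = p ^ a :=
      (Nat.card_congr (subgroupOfEquivOfLe hRH).toEquiv).trans hR
    obtain ⟨S, hS⟩ := (IsPGroup.of_card hc).exists_le_sylow
    obtain ⟨j, hj⟩ := IsPGroup.iff_card.1 S.isPGroup'
    refine ⟨S, (eq_of_le_of_card_ge hS ?_).symm⟩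
    rw [hj, hc]
    refine Nat.pow_le_pow_right (Fact.out : p.Prime).pos ?_
    by_contra hcon
    exact hH ((Nat.pow_dvd_pow p (by omega)).trans (hj ▸ card_subgroup_dvd_card _))
  obtain ⟨S, hS⟩ := key P hP hPH
  obtain ⟨T, hT⟩ := key Q hQ hQH
  obtain ⟨c, hc⟩ := MulAction.exists_smul_eq ↥H S T
  refine ⟨(c : G), c.2, fun x hx => ?_⟩
  have h1 : c * (⟨x, hPH hx⟩ : ↥H) * c⁻¹ ∈ (T : Subgroup ↥H) := by
    rw [← hc, Sylow.coe_subgroup_smul]
    exact ⟨⟨x, hPH hx⟩, by rw [hS]; exact hx, rfl⟩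
  rw [hT] at h1
  exact h1

/-- An element of `H` inducing `w ↦ w z` on a Sylow subgroup `P ∋ w` that it normalises, and
fixing `z`, has `z = 1`. -/
theorem unipotent_trivial {p a : ℕ} [Fact p.Prime] {H P : Subgroup G}
    (hP : Nat.card ↥P = p ^ a) (hH : ¬ p ^ (a + 1) ∣ Nat.card ↥H) (hPH : P ≤ H)
    (hcomm : ∀ x ∈ P, ∀ y ∈ P, Commute x y) {ρ w z : G} (hρ : ρ ∈ H)
    (hρN : ρ ∈ normalizer (P : Set G)) (hw : w ∈ P) (hρw : ρ * w * ρ⁻¹ = w * z)
    (hρz : Commute ρ z) (hz : z ^ p = 1) : z = 1 := by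
  obtain ⟨e, n, hn, hen⟩ :=
    Nat.exists_eq_pow_mul_and_not_dvd (orderOf_pos ρ).ne' p (Fact.out : p.Prime).ne_one
  have hpow : ∀ i : ℕ, ρ ^ i * w * (ρ ^ i)⁻¹ = w * z ^ i := by
    intro i
    induction i with
    | zero => simp
    | succ i ih =>
      rw [show ρ ^ (i + 1) * w * (ρ ^ (i + 1))⁻¹ = ρ * (ρ ^ i * w * (ρ ^ i)⁻¹) * ρ⁻¹ by
        rw [pow_succ']; group, ih, show ρ * (w * z ^ i) * ρ⁻¹ = ρ * w * ρ⁻¹ * (ρ * z ^ i * ρ⁻¹) by
        group, hρw, (hρz.pow_right i).eq, mul_inv_cancel_right, pow_succ', mul_assoc]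
  have hxe : (ρ ^ n) ^ p ^ e = 1 := by
    rw [← pow_mul, mul_comm, ← hen, pow_orderOf_eq_one]
  have hx := mem_of_normalizes hP hH hPH (pow_mem hρ n) hxe (pow_mem hρN n)
  have h1 : w * z ^ n = w := by
    rw [← hpow n, (hcomm _ hx w hw).eq, mul_inv_cancel_right]
  have hzn : z ^ n = 1 := mul_left_cancel (h1.trans (mul_one w).symm)
  exact orderOf_eq_one_iff.1 (Nat.eq_one_of_dvd_coprimes
    ((Fact.out : p.Prime).coprime_iff_not_dvd.2 hn)
    (orderOf_dvd_of_pow_eq_one hz) (orderOf_dvd_of_pow_eq_one hzn))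

section Main

variable {F : Type} [Field F] [Fintype F] {t : G}

theorem conj_zpow_eq {c a b : G} (h : c * a * c⁻¹ = b) (i : ℤ) : c * a ^ i * c⁻¹ = b ^ i := by
  rw [← h, conj_zpow]

/-- The rotor of order three commuting with the inverter and the torus. -/
theorem exists_gens (h : H29.Ward.Hyp G F t)
    (hq : Fintype.card F = 11 ∨ Fintype.card F = 13) :
    ∃ k w u v : G, k ^ 3 = 1 ∧ k ≠ 1 ∧ w ^ 3 = 1 ∧ w ∉ zpowers k ∧ Commute w k ∧
      u * u = 1 ∧ u * k * u⁻¹ = k⁻¹ ∧ u * w * u⁻¹ = w ∧ Commute k t ∧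
      ¬ 27 ∣ Nat.card ↥(centralizer ({k} : Set G)) ∧ v * v = 1 := by
  obtain ⟨S, htS, -, hS8⟩ := h.exists_sylow
  obtain ⟨v, hvS, hv1, hne⟩ : ∃ v ∈ (S : Subgroup G), v ≠ 1 ∧ v ≠ t := by
    by_contra hc
    push Not at hc
    have hsub : ((S : Subgroup G) : Set G) ⊆ {1, t} := fun x hx => by
      by_cases h1 : x = 1
      · exact Or.inl h1
      · exact Or.inr (hc x hx h1)
    have h1 := Set.ncard_le_ncard hsub (Set.toFinite _)
    rw [← Nat.card_coe_set_eq] at h1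
    have h2 : Nat.card ↥((S : Subgroup G) : Set G) = 8 := hS8
    rw [h2] at h1
    have h3 := (Set.ncard_insert_le (1 : G) {t}).trans (by rw [Set.ncard_singleton])
    omega
  have hv := h.sq_of_two S.isPGroup' hvS
  have hvt : Commute v t := h.comm_two S.isPGroup' hvS htS
  obtain ⟨P, hPW, hPK, hwt, hwv, hwo⟩ := h.exists_torusPair hv hv1 hvt hne
  obtain ⟨-, -, hcen, h3, h5⟩ := h.torusK_facts hv hv1 hvt hne
  have hK3 : Nat.card ↥(torusK t v) = 3 := by
    rcases hq with e | e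
    · have := h3 (by rw [e]); omega
    · have := h5 (by rw [e]); omega
  haveI : Fact (Nat.Prime 3) := ⟨Nat.prime_three⟩
  obtain ⟨⟨k, hk⟩, hk'⟩ :=
    exists_prime_orderOf_dvd_card' (G := ↥(torusK t v)) 3 (by rw [hK3])
  have hko : orderOf k = 3 := by rw [← hk']; exact Subgroup.orderOf_coe (⟨k, hk⟩ : ↥(torusK t v))
  have hk3 : k ^ 3 = 1 := hko ▸ pow_orderOf_eq_one k
  have hk1 : k ≠ 1 := fun e => by rw [e, orderOf_one] at hko; omega
  have hKk : torusK t v = zpowers k := by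
    refine (eq_of_le_of_card_ge (zpowers_le.2 hk) ?_).symm
    rw [hK3, Nat.card_zpowers, hko]
  have hKt : ∀ b ∈ torusK t v, Commute b t ∧ Commute b v := fun b hb =>
    mem_centralizer_pair.1 (hcen hb)
  have hK3' : ∀ b ∈ torusK t v, b ^ 3 = 1 := fun b hb => by
    have := pow_card_eq_one' (G := ↥(torusK t v)) (x := ⟨b, hb⟩)
    rw [hK3] at this
    exact congrArg Subtype.val this
  -- the old generators
  set w := P.w with hwdef
  set u := P.u with hudef
  have hu2 : u * u = 1 := P.u_sq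
  have hui : u⁻¹ = u := inv_eq_of_mul_eq_one_right hu2
  have htW : t ∈ fourW t v := subset_closure (Or.inl rfl)
  have hvW : v ∈ fourW t v := subset_closure (Or.inr rfl)
  have huW : ∀ x ∈ fourW t v, u * x * u⁻¹ = x := fun x hx => P.u_W x (hPW ▸ hx)
  have huK : ∀ b ∈ torusK t v, u * b * u⁻¹ = b⁻¹ := fun b hb => P.u_K b (hPK ▸ hb)
  have hwW : ∀ x ∈ fourW t v, w * x * w⁻¹ ∈ fourW t v := fun x hx => by
    have := P.w_W x (hPW ▸ hx); rwa [hPW] at this
  have hfpf : ∀ x ∈ fourW t v, w * x * w⁻¹ = x → x = 1 := fun x hx => P.w_fpf x (hPW ▸ hx)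
  have hwk : Commute w k := by
    have hmem : w * k * w⁻¹ ∈ zpowers k := by
      have := P.w_K k (hPK ▸ hk); rwa [hPK, hKk] at this
    rcases three_cases hk3 hmem with e | e | e
    · exact absurd (conj_eq_one_iff.1 e) hk1
    · exact mul_inv_eq_iff_eq_mul.1 e
    · exfalso
      obtain ⟨j, hj⟩ := hwo
      have h2 : Commute (w * w) k := by
        refine mul_inv_eq_iff_eq_mul.1 ?_
        rw [show w * w * k * (w * w)⁻¹ = w * (w * k * w⁻¹) * w⁻¹ by group, e, ← conj_inv, e,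
          inv_inv]
      have h4 : w * k * w⁻¹ = k := by
        have h6 : w = (w * w) ^ (j + 1) := by
          rw [← pow_two, ← pow_mul, show 2 * (j + 1) = orderOf w + 1 by omega, pow_succ,
            pow_orderOf_eq_one, one_mul]
        have h7 := h2.pow_left (j + 1)
        rw [← h6] at h7
        exact mul_inv_eq_iff_eq_mul.2 h7.eq
      exact hk1 (eq_one_of_sq_cube (eq_inv_iff_mul_eq_one.1 (h4.symm.trans e)) hk3)
  have hwtv : w * (t * v) * w⁻¹ = t := by
    rw [show w * (t * v) * w⁻¹ = w * t * w⁻¹ * (w * v * w⁻¹) by group, hwt, hwv, ← mul_assoc,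
      hvt.eq, mul_assoc, hv, mul_one]
  have hw3K : w ^ 3 ∈ torusK t v := by
    refine subset_closure ⟨mem_centralizer_pair.2 ⟨?_, ?_⟩,
      Odd.of_dvd_nat hwo (orderOf_pow_dvd 3)⟩
    · refine mul_inv_eq_iff_eq_mul.1 ?_
      rw [show w ^ 3 * t * (w ^ 3)⁻¹ = w * (w * (w * t * w⁻¹) * w⁻¹) * w⁻¹ by
        simp only [pow_succ, pow_zero, one_mul]; group, hwt, hwv, hwtv]
    · refine mul_inv_eq_iff_eq_mul.1 ?_
      rw [show w ^ 3 * v * (w ^ 3)⁻¹ = w * (w * (w * v * w⁻¹) * w⁻¹) * w⁻¹ by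
        simp only [pow_succ, pow_zero, one_mul]; group, hwv, hwtv, hwt]
  have hutW : u * t * u⁻¹ = t := huW t htW
  have huvW : u * v * u⁻¹ = v := huW v hvW
  have hut : Commute u t := mul_inv_eq_iff_eq_mul.1 hutW
  have huv : Commute u v := mul_inv_eq_iff_eq_mul.1 huvW
  have huk_ne : ¬ Commute u k := fun e => hk1 (eq_one_of_sq_cube
    (eq_inv_iff_mul_eq_one.1 ((mul_inv_eq_iff_eq_mul.2 e.eq).symm.trans (huK k hk))) hk3)
  have hsupk : ∀ a ∈ fourW t v ⊔ torusK t v, Commute a k := fun a ha => by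
    obtain ⟨s, hs, b, hb, rfl⟩ := h.exists_mul_of_mem_sup hv hv1 hvt hne ha
    rw [hKk] at hb
    obtain ⟨i, rfl⟩ := mem_zpowers_iff.1 hb
    exact (h.commute_four_torusK hv hv1 hvt hne hs hk).mul_left
      ((Commute.refl k).zpow_left i)
  have huW' : u ∉ fourW t v := fun e => huk_ne (hsupk u (mem_sup_left e))
  -- `u w u = w s b`
  set e0 := w⁻¹ * (u * w * u⁻¹) with he0
  have he0C : e0 ∈ centralizer ({t, v} : Set G) := by
    refine mem_centralizer_pair.2 ⟨mul_inv_eq_iff_eq_mul.1 ?_, mul_inv_eq_iff_eq_mul.1 ?_⟩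
    · calc e0 * t * e0⁻¹ = w⁻¹ * (u * (w * (u⁻¹ * t * u) * w⁻¹) * u⁻¹) * w := by
            rw [he0]; group
        _ = w⁻¹ * (u * (w * t * w⁻¹) * u⁻¹) * w := by
            rw [show u⁻¹ * t * u = t by rw [mul_assoc, ← hut.eq, inv_mul_cancel_left]]
        _ = t := by rw [hwt, huvW, ← hwt]; group
    · calc e0 * v * e0⁻¹ = w⁻¹ * (u * (w * (u⁻¹ * v * u) * w⁻¹) * u⁻¹) * w := by
            rw [he0]; group
        _ = w⁻¹ * (u * (w * v * w⁻¹) * u⁻¹) * w := by
            rw [show u⁻¹ * v * u = v by rw [mul_assoc, ← huv.eq, inv_mul_cancel_left]]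
        _ = v := by
            rw [hwv, show u * (t * v) * u⁻¹ = u * t * u⁻¹ * (u * v * u⁻¹) by group, hutW, huvW,
              ← hwv]
            group
  have he0k : Commute e0 k := by
    refine (hwk.inv_left).mul_left (mul_inv_eq_iff_eq_mul.1 ?_)
    have hik : u⁻¹ * k * u = k⁻¹ := by
      have := huK k hk
      rwa [hui] at this ⊢
    rw [show u * w * u⁻¹ * k * (u * w * u⁻¹)⁻¹ = u * (w * (u⁻¹ * k * u) * w⁻¹) * u⁻¹ by group,
      hik, hwk.inv_right.eq, mul_inv_cancel_right, huK _ (inv_mem hk), inv_inv]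
  obtain ⟨s, hs, b, hb, hsb⟩ : ∃ s ∈ fourW t v, ∃ b ∈ torusK t v, e0 = s * b := by
    refine h.exists_mul_of_mem_sup hv hv1 hvt hne ?_
    refine (h.centralizer_pair_cases hv hv1 hvt hne hu2 hut huv huW' he0C).resolve_right
      fun h1 => huk_ne ?_
    have := (hsupk _ h1).mul_left he0k.inv_left
    rwa [mul_inv_cancel_right] at this
  have huwu : u * w * u⁻¹ = w * s * b := by
    rw [mul_assoc w s b, ← hsb, he0, mul_inv_cancel_left]
  have hbs : Commute b s := (h.commute_four_torusK hv hv1 hvt hne hs hb).symm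
  have hbw : Commute b w := by
    rw [hKk] at hb
    obtain ⟨i, rfl⟩ := mem_zpowers_iff.1 hb
    exact (hwk.zpow_right i).symm
  -- `w ^ 3 = 1`
  have hw3W : ∀ x ∈ fourW t v, Commute (w ^ 3) x := fun x hx =>
    (h.commute_four_torusK hv hv1 hvt hne hx hw3K).symm
  have hws3 : (w * s) ^ 3 = w ^ 3 := by
    set a := w * s * w⁻¹ with ha
    set b' := w * a * w⁻¹ with hb'
    have haW : a ∈ fourW t v := hwW s hs
    have hbW : b' ∈ fourW t v := hwW a haW
    have hwb : w * b' * w⁻¹ = s := by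
      rw [hb', ha, show w * (w * (w * s * w⁻¹) * w⁻¹) * w⁻¹ = w ^ 3 * s * (w ^ 3)⁻¹ by
        simp only [pow_succ, pow_zero, one_mul]; group, (hw3W s hs).eq, mul_inv_cancel_right]
    haveI := P.klein
    have hcomm : ∀ {x y : G}, x ∈ fourW t v → y ∈ fourW t v → Commute x y := fun hx hy =>
      P.comm_W (hPW ▸ hx) (hPW ▸ hy)
    have hone : a * b' * s = 1 := by
      refine hfpf _ (mul_mem (mul_mem haW hbW) hs) ?_
      rw [show w * (a * b' * s) * w⁻¹ = (w * a * w⁻¹) * (w * b' * w⁻¹) * (w * s * w⁻¹) by group,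
        hwb, ← hb', ← ha, (hcomm (mul_mem hbW hs) haW).eq, ← mul_assoc]
    calc (w * s) ^ 3 = a * b' * (w ^ 3 * s * (w ^ 3)⁻¹) * w ^ 3 := by
          rw [hb', ha]; simp only [pow_succ, pow_zero, one_mul]; group
      _ = w ^ 3 := by rw [(hw3W s hs).eq, mul_inv_cancel_right, hone, one_mul]
  have hw3 : w ^ 3 = 1 := by
    have h1 : (u * w * u⁻¹) ^ 3 = w ^ 3 := by
      rw [huwu, (hbw.mul_right hbs).symm.mul_pow, hK3' b hb, mul_one, hws3]
    rw [conj_pow, huK _ hw3K] at h1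
    have h2 : w ^ 3 * w ^ 3 = 1 := inv_eq_iff_mul_eq_one.1 h1
    exact H29.Walter.coprime_two_of_odd (Odd.of_dvd_nat hwo (orderOf_pow_dvd 3)) h2
  -- correcting the inverter
  have hWback : ∀ x ∈ fourW t v, w⁻¹ * x * w ∈ fourW t v := fun x hx => by
    have := hwW _ (hwW x hx)
    rwa [show w * (w * x * w⁻¹) * w⁻¹ = w ^ 3 * (w⁻¹ * x * w) * (w ^ 3)⁻¹ by
      simp only [pow_succ, pow_zero, one_mul]; group, hw3, one_mul, inv_one, mul_one] at this
  obtain ⟨s', hs', hs'e⟩ : ∃ s' ∈ fourW t v, w⁻¹ * s' * w * s' = s := by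
    let f : ↥(fourW t v) → ↥(fourW t v) := fun x =>
      ⟨w⁻¹ * x * w * x, mul_mem (hWback x x.2) x.2⟩
    have hsq : ∀ x ∈ fourW t v, x * x = 1 := fun x hx => P.mul_self (hPW ▸ hx)
    have hcW : ∀ {x y : G}, x ∈ fourW t v → y ∈ fourW t v → Commute x y := fun hx hy =>
      P.comm_W (hPW ▸ hx) (hPW ▸ hy)
    have hinj : Function.Injective f := by
      intro x y hxy
      have hxy' : w⁻¹ * (x : G) * w * x = w⁻¹ * (y : G) * w * y := congrArg Subtype.val hxy
      have hd : (x : G) * y ∈ fourW t v := mul_mem x.2 y.2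
      have h1 : w⁻¹ * ((x : G) * y) * w * ((x : G) * y) = 1 := by
        rw [show w⁻¹ * ((x : G) * y) * w * ((x : G) * y)
          = w⁻¹ * (x : G) * w * ((w⁻¹ * (y : G) * w) * x) * y by group,
          (hcW (hWback y y.2) x.2).eq, ← mul_assoc, hxy', mul_assoc,
          show w⁻¹ * (y : G) * w * y * (w⁻¹ * (y : G) * w * y)
            = w⁻¹ * (y : G) * w * (y * (w⁻¹ * (y : G) * w) * y) by group,
          ← (hcW (hWback y y.2) y.2).eq, mul_assoc _ (y : G) (y : G), hsq y y.2, mul_one]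
        rw [show w⁻¹ * (y : G) * w * (w⁻¹ * (y : G) * w) = w⁻¹ * ((y : G) * y) * w by group,
          hsq y y.2, mul_one, inv_mul_cancel]
      have h2 : w⁻¹ * ((x : G) * y) * w = (x : G) * y := by
        rw [eq_inv_of_mul_eq_one_left h1, inv_eq_of_mul_eq_one_right (hsq _ hd)]
      have h3 : (x : G) * y = 1 := hfpf _ hd (by
        conv_lhs => rw [← h2]
        group)
      exact Subtype.ext ((eq_inv_of_mul_eq_one_left h3).trans
        (inv_eq_of_mul_eq_one_right (hsq y y.2)))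
    obtain ⟨x, hx⟩ := Finite.injective_iff_surjective.1 hinj ⟨s, hs⟩
    exact ⟨x, x.2, congrArg Subtype.val hx⟩
  have hs'2 : s' * s' = 1 := P.mul_self (hPW ▸ hs')
  have hs'i : s'⁻¹ = s' := inv_eq_of_mul_eq_one_right hs'2
  have hus' : Commute u s' := mul_inv_eq_iff_eq_mul.1 (huW s' hs')
  have hs'K : ∀ c ∈ torusK t v, s' * c * s'⁻¹ = c := fun c hc =>
    mul_inv_eq_iff_eq_mul.2 (h.commute_four_torusK hv hv1 hvt hne hs' hc).eq
  set u₁ := s' * u with hu₁
  set w₁ := w * (b * b) with hw₁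
  have hbK : b * b ∈ torusK t v := mul_mem hb hb
  have hbw' : Commute (b * b) w := hbw.mul_left hbw
  refine ⟨k, w₁, u₁, v, hk3, hk1, ?_, ?_, ?_, ?_, ?_, ?_, (hKt k hk).1, ?_, hv⟩
  · rw [hw₁, hbw'.symm.mul_pow, hw3, one_mul, hK3' _ hbK]
  · intro hmem
    rw [← hKk] at hmem
    have hw : w ∈ torusK t v := by
      rw [show w = w₁ * (b * b)⁻¹ by rw [hw₁, mul_inv_cancel_right]]
      exact mul_mem hmem (inv_mem hbK)
    have := hwt
    rw [(hKt w hw).1.eq, mul_inv_cancel_right] at this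
    exact hne this.symm
  · refine hwk.mul_left ?_
    rw [hKk] at hbK
    obtain ⟨i, hi⟩ := mem_zpowers_iff.1 hbK
    rw [← hi]
    exact (Commute.refl k).zpow_left i
  · rw [hu₁, show s' * u * (s' * u) = s' * (u * s') * u by group, hus'.eq, ← mul_assoc, hs'2,
      one_mul, hu2]
  · rw [hu₁, show s' * u * k * (s' * u)⁻¹ = s' * (u * k * u⁻¹) * s'⁻¹ by group, huK k hk,
      hs'K _ (inv_mem hk)]
  · rw [hu₁, hw₁, show s' * u * (w * (b * b)) * (s' * u)⁻¹
      = s' * ((u * w * u⁻¹) * (u * (b * b) * u⁻¹)) * s'⁻¹ by group, huwu, huK _ hbK,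
      show s' * (w * s * b * (b * b)⁻¹) * s'⁻¹
        = w * (w⁻¹ * s' * w) * s * (b⁻¹ * s'⁻¹) by group]
    rw [← hs'e, show w * (w⁻¹ * s' * w) * (w⁻¹ * s' * w * s') * (b⁻¹ * s'⁻¹)
      = w * (w⁻¹ * (s' * s') * w) * (s' * b⁻¹ * s'⁻¹) by group, hs'2, mul_one, inv_mul_cancel,
      mul_one, hs'K _ (inv_mem hb)]
    congr 1
    refine inv_eq_of_mul_eq_one_right ?_
    rw [← mul_assoc, ← pow_two, ← pow_succ, hK3' b hb]
  · -- the order of the centraliser of `k`
    set H := centralizer ({k} : Set G) with hH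
    have cfg := h.torusCfg hv hv1 hvt hne hk hk1
    have hWH : fourW t v ≤ H := fun x hx =>
      mem_centralizer_singleton_iff.2 (h.commute_four_torusK hv hv1 hvt hne hx hk).eq
    have hKH : torusK t v ≤ H := fun x hx =>
      mem_centralizer_singleton_iff.2 (hsupk x (mem_sup_right hx)).eq
    have hcK : Nat.card ↥((torusK t v).subgroupOf H) = 3 :=
      (Nat.card_congr (subgroupOfEquivOfLe hKH).toEquiv).trans hK3
    have hidx := ((torusK t v).subgroupOf H).card_mul_index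
    rw [hcK] at hidx
    rcases cfg.cases with htop | ⟨-, ⟨-, h12⟩ | ⟨⟨hn, ⟨e⟩⟩, -⟩⟩
    · exfalso
      have hw : (⟨w, mem_centralizer_singleton_iff.2 hwk.eq⟩ : ↥H) ∈
          (fourW t v).subgroupOf H ⊔ (torusK t v).subgroupOf H := htop ▸ mem_top _
      rw [← subgroupOf_sup hWH hKH] at hw
      obtain ⟨x, hx, c, hc, hxc⟩ :=
        h.exists_mul_of_mem_sup hv hv1 hvt hne (show w ∈ fourW t v ⊔ torusK t v from hw)
      have hwt' : Commute w t := by
        rw [hxc]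
        exact (P.comm_W (hPW ▸ hx) (hPW ▸ htW)).mul_left (hKt c hc).1
      have := hwt
      rw [hwt'.eq, mul_inv_cancel_right] at this
      exact hne this.symm
    · rw [h12] at hidx; omega
    · haveI := hn
      rw [index_eq_card, Nat.card_congr e.toEquiv, nat_card_alternatingGroup, Nat.card_fin] at hidx
      norm_num [Nat.factorial] at hidx
      omega

/-- **`q = 11` and `q = 13` are impossible.** -/
theorem false_of_three (h : H29.Ward.Hyp G F t)
    (hq : Fintype.card F = 11 ∨ Fintype.card F = 13) : False := by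
  haveI : Fact (Nat.Prime 3) := ⟨Nat.prime_three⟩
  obtain ⟨k, w, u, -, hk3, hk1, hw3, hwk, hcomm, hu2, huk, huw, hkt, h27, -⟩ := exists_gens h hq
  have hui : u⁻¹ = u := inv_eq_of_mul_eq_one_right hu2
  have hw1 : w ≠ 1 := fun e => hwk (e ▸ one_mem _)
  have hko : orderOf k = 3 := orderOf_eq_prime hk3 hk1
  have hwo : orderOf w = 3 := orderOf_eq_prime hw3 hw1
  have hu1 : u ≠ 1 := fun e => hk1 (eq_one_of_sq_cube (eq_inv_iff_mul_eq_one.1 (by
    rw [e, one_mul, inv_one, mul_one] at huk; exact huk)) hk3)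
  -- `P = ⟨k, w⟩`
  have hAB : ∀ (a : ↥(zpowers k)) (b : ↥(zpowers w)),
      Commute ((zpowers k).subtype a) ((zpowers w).subtype b) := by
    rintro ⟨a, ha⟩ ⟨b, hb⟩
    obtain ⟨i, rfl⟩ := mem_zpowers_iff.1 ha
    obtain ⟨j, rfl⟩ := mem_zpowers_iff.1 hb
    exact (hcomm.symm.zpow_zpow i j)
  let φ : ↥(zpowers k) × ↥(zpowers w) →* G :=
    (zpowers k).subtype.noncommCoprod (zpowers w).subtype hAB
  have hφi : Function.Injective φ := by
    rw [injective_iff_map_eq_one]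
    rintro ⟨⟨a, ha⟩, ⟨b, hb⟩⟩ hab
    have hab' : a * b = 1 := hab
    have hb1 : b = 1 := by
      rcases three_cases hw3 hb with e | e | e
      · exact e
      · refine absurd ?_ hwk
        rw [← e, eq_inv_of_mul_eq_one_right hab']; exact inv_mem ha
      · refine absurd ?_ hwk
        rw [show w = b⁻¹ by rw [e, inv_inv], eq_inv_of_mul_eq_one_right hab', inv_inv]
        exact ha
    rw [hb1, mul_one] at hab'
    exact Prod.ext (Subtype.ext hab') (Subtype.ext hb1)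
  set P : Subgroup G := φ.range with hPdef
  have hP9 : Nat.card ↥P = 3 ^ 2 := by
    rw [← Nat.card_congr (MonoidHom.ofInjective hφi).toEquiv, Nat.card_prod, Nat.card_zpowers,
      Nat.card_zpowers, hko, hwo]
    rfl
  have hkP : k ∈ P := ⟨(⟨k, mem_zpowers k⟩, 1), by simp [φ]⟩
  have hwP : w ∈ P := ⟨(1, ⟨w, mem_zpowers w⟩), by simp [φ]⟩
  have hPc : ∀ x ∈ P, ∀ y ∈ P, Commute x y := by
    rintro _ ⟨⟨a, b⟩, rfl⟩ _ ⟨⟨a', b'⟩, rfl⟩
    have ha : Commute (a : G) (a' : G) := by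
      obtain ⟨i, hi⟩ := mem_zpowers_iff.1 a.2
      obtain ⟨j, hj⟩ := mem_zpowers_iff.1 a'.2
      rw [← hi, ← hj]; exact (Commute.refl k).zpow_zpow i j
    have hb : Commute (b : G) (b' : G) := by
      obtain ⟨i, hi⟩ := mem_zpowers_iff.1 b.2
      obtain ⟨j, hj⟩ := mem_zpowers_iff.1 b'.2
      rw [← hi, ← hj]; exact (Commute.refl w).zpow_zpow i j
    exact ((ha.mul_right (hAB a b')).mul_left ((hAB a' b).symm.mul_right hb))
  have hPk : P ≤ centralizer ({k} : Set G) := fun x hx =>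
    mem_centralizer_singleton_iff.2 (hPc x hx k hkP).eq
  have hPw : P ≤ centralizer ({w} : Set G) := fun x hx =>
    mem_centralizer_singleton_iff.2 (hPc x hx w hwP).eq
  -- how `u` acts on `P`
  have huP : ∀ x ∈ P, ∃ a ∈ zpowers k, ∃ b ∈ zpowers w, x = a * b ∧
      u * x * u⁻¹ = a⁻¹ * b := by
    rintro _ ⟨⟨⟨a, ha⟩, ⟨b, hb⟩⟩, rfl⟩
    refine ⟨a, ha, b, hb, rfl, ?_⟩
    show u * (a * b) * u⁻¹ = a⁻¹ * b
    obtain ⟨i, rfl⟩ := mem_zpowers_iff.1 ha
    obtain ⟨j, rfl⟩ := mem_zpowers_iff.1 hb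
    rw [show u * (k ^ i * w ^ j) * u⁻¹ = (u * k ^ i * u⁻¹) * (u * w ^ j * u⁻¹) by group,
      conj_zpow_eq huk, conj_zpow_eq huw, inv_zpow]
  have hcube : ∀ {x y : G}, x ^ 3 = 1 → y ∈ zpowers x → y ^ 3 = 1 := fun {x y} hx hy => by
    rcases three_cases hx hy with e | e | e <;> rw [e]
    · exact one_pow 3
    · exact hx
    · rw [inv_pow, hx, inv_one]
  have hfix : ∀ x ∈ P, u * x * u⁻¹ = x → x ∈ zpowers w := fun x hx e => by
    obtain ⟨a, ha, b, hb, rfl, hu⟩ := huP x hx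
    have h1 := mul_right_cancel (hu.symm.trans e)
    rw [eq_one_of_sq_cube (inv_eq_iff_mul_eq_one.1 h1) (hcube hk3 ha), one_mul]
    exact hb
  have hinv : ∀ x ∈ P, u * x * u⁻¹ = x⁻¹ → x ∈ zpowers k := fun x hx e => by
    obtain ⟨a, ha, b, hb, rfl, hu⟩ := huP x hx
    have hab : Commute a b := hAB ⟨a, ha⟩ ⟨b, hb⟩
    have h1 := hu.symm.trans e
    rw [hab.eq, mul_inv_rev] at h1
    have h2 := mul_left_cancel h1
    rw [eq_one_of_sq_cube (eq_inv_iff_mul_eq_one.1 h2) (hcube hw3 hb), mul_one]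
    exact ha
  have huN : u ∈ normalizer (P : Set G) := mem_normalizer_of_conj fun x hx => by
    obtain ⟨a, ha, b, hb, -, hu⟩ := huP x hx
    rw [hu]
    exact ⟨(⟨a⁻¹, inv_mem ha⟩, ⟨b, hb⟩), rfl⟩
  -- `k` and `w` centralise involutions, so generate conjugate subgroups
  have hu' : orderOf u = 2 := orderOf_eq_prime (by rw [pow_two, hu2]) hu1
  obtain ⟨g₀, hg₀⟩ := isConj_iff.1 (h.isConj_invol hu')
  have h9 : ¬ 3 ^ (1 + 1) ∣ Nat.card ↥(centralizer ({u} : Set G)) := by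
    rw [(h.of_invol hu').card_centralizer,
      H56.CTwoAb.card_psl_two_odd (Nat.odd_iff.1 h.odd)]
    rcases hq with e | e <;> rw [e] <;> norm_num
  obtain ⟨c, hcu, hc⟩ := exists_conj (a := 1) (P := zpowers (g₀ * k * g₀⁻¹)) (Q := zpowers w)
    (H := centralizer ({u} : Set G))
    (by rw [Nat.card_zpowers, H26.orderOf_conj_eq, hko, pow_one])
    (by rw [Nat.card_zpowers, hwo, pow_one]) h9
    (zpowers_le.2 (mem_centralizer_singleton_iff.2 (by
      have := hkt.map (MulAut.conj g₀)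
      simp only [MulAut.conj_apply, hg₀] at this
      exact this.eq)))
    (zpowers_le.2 (mem_centralizer_singleton_iff.2 (mul_inv_eq_iff_eq_mul.1 huw).symm))
  set g := c * g₀ with hg
  have hgk : g * k * g⁻¹ = w ∨ g * k * g⁻¹ = w⁻¹ := by
    have h1 := hc _ (mem_zpowers _)
    rw [show c * (g₀ * k * g₀⁻¹) * c⁻¹ = g * k * g⁻¹ by rw [hg]; group] at h1
    exact (three_cases hw3 h1).resolve_left fun e => hk1 (conj_eq_one_iff.1 e)
  have hmapC : (centralizer ({k} : Set G)).map (MulAut.conj g).toMonoidHom =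
      centralizer ({w} : Set G) := by
    ext y
    rw [mem_map, mem_centralizer_singleton_iff]
    constructor
    · rintro ⟨x, hx, rfl⟩
      have hxk : Commute x k := mem_centralizer_singleton_iff.1 hx
      have := hxk.map (MulAut.conj g)
      simp only [MulAut.conj_apply] at this
      show g * x * g⁻¹ * w = w * (g * x * g⁻¹)
      rcases hgk with e | e <;> rw [e] at this
      · exact this.eq
      · exact (Commute.inv_right_iff.1 this).eq
    · intro hy
      refine ⟨g⁻¹ * y * g, mem_centralizer_singleton_iff.2 ?_, by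
        simp only [MulEquiv.coe_toMonoidHom, MulAut.conj_apply]; group⟩
      have hy' : Commute y (g * k * g⁻¹) := by
        rcases hgk with e | e <;> rw [e]
        · exact hy
        · exact Commute.inv_right hy
      calc g⁻¹ * y * g * k = g⁻¹ * (y * (g * k * g⁻¹)) * g := by group
        _ = k * (g⁻¹ * y * g) := by rw [hy'.eq]; group
  have h27w : ¬ 3 ^ (2 + 1) ∣ Nat.card ↥(centralizer ({w} : Set G)) := by
    rw [← hmapC, card_map_of_injective (MulAut.conj g).injective]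
    exact h27
  -- an element normalising `P` taking `k` to `w`
  obtain ⟨d, hdw, hd⟩ := exists_conj (a := 2) (P := P.map (MulAut.conj g).toMonoidHom) (Q := P)
    (H := centralizer ({w} : Set G))
    (by rw [card_map_of_injective (MulAut.conj g).injective, hP9]) hP9 h27w
    (by rw [← hmapC]; exact map_mono hPk) hPw
  set n := d * g with hn
  have hnk : n * k * n⁻¹ = w ∨ n * k * n⁻¹ = w⁻¹ := by
    have hdw' : Commute d w := mem_centralizer_singleton_iff.1 hdw
    rw [show n * k * n⁻¹ = d * (g * k * g⁻¹) * d⁻¹ by rw [hn]; group]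
    rcases hgk with e | e <;> rw [e]
    · left; rw [hdw'.eq, mul_inv_cancel_right]
    · right; rw [hdw'.inv_right.eq, mul_inv_cancel_right]
  have hnN : n ∈ normalizer (P : Set G) := mem_normalizer_of_conj fun x hx => by
    have := hd (g * x * g⁻¹) ⟨x, hx, rfl⟩
    rwa [show d * (g * x * g⁻¹) * d⁻¹ = n * x * n⁻¹ by rw [hn]; group] at this
  -- the involution fixing `k` and inverting `w`
  set ι := n⁻¹ * u * n with hι
  have hι2 : ι * ι = 1 := by
    rw [hι, show n⁻¹ * u * n * (n⁻¹ * u * n) = n⁻¹ * (u * u) * n by group, hu2, mul_one,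
      inv_mul_cancel]
  have hιi : ι⁻¹ = ι := inv_eq_of_mul_eq_one_right hι2
  have hιN : ι ∈ normalizer (P : Set G) := mul_mem (mul_mem (inv_mem hnN) huN) hnN
  have hιk : Commute ι k := by
    refine mul_inv_eq_iff_eq_mul.1 ?_
    rw [hι, show n⁻¹ * u * n * k * (n⁻¹ * u * n)⁻¹ = n⁻¹ * (u * (n * k * n⁻¹) * u⁻¹) * n by group]
    have : u * (n * k * n⁻¹) * u⁻¹ = n * k * n⁻¹ := by
      rcases hnk with e | e <;> rw [e]
      · exact huw
      · rw [← conj_inv, huw]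
    rw [this]; group
  have hιfix : ∀ x ∈ P, ι * x * ι⁻¹ = x → x ∈ zpowers k := fun x hx e => by
    have h1 : n * x * n⁻¹ ∈ zpowers w := hfix _ ((mem_normalizer_iff.1 hnN x).1 hx) (by
      conv_rhs => rw [← e]
      rw [hι]; group)
    have h2 : zpowers w = zpowers (n * k * n⁻¹) := by
      rcases hnk with e' | e' <;> rw [e']
      rw [zpowers_inv]
    rw [h2] at h1
    obtain ⟨i, hi⟩ := mem_zpowers_iff.1 h1
    rw [conj_zpow] at hi
    exact mem_zpowers_iff.2 ⟨i, mul_left_cancel (mul_right_cancel hi)⟩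
  set z := w * (ι * w * ι⁻¹) with hzdef
  have hιwP : ι * w * ι⁻¹ ∈ P := (mem_normalizer_iff.1 hιN w).1 hwP
  have hz : z ∈ zpowers k := hιfix z (mul_mem hwP hιwP) (by
    rw [hzdef, show ι * (w * (ι * w * ι⁻¹)) * ι⁻¹ = ι * w * ι⁻¹ * ((ι * ι) * w * (ι * ι)⁻¹) by
      group, hι2, one_mul, inv_one, mul_one, (hPc _ hιwP w hwP).eq])
  have hzP : z ∈ P := mul_mem hwP hιwP
  have hιw : ι * w * ι⁻¹ = w⁻¹ * z := by rw [hzdef, inv_mul_cancel_left]
  have hkcomm : ∀ {x : G}, Commute x k → ∀ y ∈ zpowers k, Commute x y := fun {x} hx y hy => by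
    obtain ⟨i, rfl⟩ := mem_zpowers_iff.1 hy
    exact hx.zpow_right i
  have huz : u * z * u⁻¹ = z⁻¹ := by
    obtain ⟨i, hi⟩ := mem_zpowers_iff.1 hz
    rw [← hi, conj_zpow_eq huk, inv_zpow]
  set ι₂ := u * ι * u⁻¹ with hι₂
  have hι₂k : Commute ι₂ k := by
    refine mul_inv_eq_iff_eq_mul.1 ?_
    have hik : u⁻¹ * k * u = k⁻¹ := by rw [hui]; rw [hui] at huk; exact huk
    rw [hι₂, show u * ι * u⁻¹ * k * (u * ι * u⁻¹)⁻¹ = u * (ι * (u⁻¹ * k * u) * ι⁻¹) * u⁻¹ by group,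
      hik, hιk.inv_right.eq, mul_inv_cancel_right, ← conj_inv, huk, inv_inv]
  have hι₂w : ι₂ * w * ι₂⁻¹ = w⁻¹ * z⁻¹ := by
    have hiw : u⁻¹ * w * u = w := by rw [hui]; rw [hui] at huw; exact huw
    rw [hι₂, show u * ι * u⁻¹ * w * (u * ι * u⁻¹)⁻¹ = u * (ι * (u⁻¹ * w * u) * ι⁻¹) * u⁻¹ by group,
      hiw, hιw, show u * (w⁻¹ * z) * u⁻¹ = (u * w * u⁻¹)⁻¹ * (u * z * u⁻¹) by group, huw, huz]
  have hzz : z * z = 1 := by
    refine unipotent_trivial hP9 h27 hPk hPc (ρ := ι₂ * ι) ?_ ?_ hwP ?_ ?_ ?_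
    · exact mem_centralizer_singleton_iff.2 (hι₂k.mul_left hιk).eq
    · exact mul_mem (mul_mem (mul_mem huN hιN) (inv_mem huN)) hιN
    · rw [show ι₂ * ι * w * (ι₂ * ι)⁻¹ = ι₂ * (ι * w * ι⁻¹) * ι₂⁻¹ by group, hιw,
        show ι₂ * (w⁻¹ * z) * ι₂⁻¹ = (ι₂ * w * ι₂⁻¹)⁻¹ * (ι₂ * z * ι₂⁻¹) by group, hι₂w,
        (hkcomm hι₂k z hz).eq, mul_inv_cancel_right, mul_inv_rev, inv_inv, inv_inv,
        (hPc z hzP w hwP).eq, mul_assoc]
    · exact hkcomm (hι₂k.mul_left hιk) _ (mul_mem hz hz)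
    · rw [(Commute.refl z).mul_pow, hcube hk3 hz, one_mul]
  have hz1 : z = 1 := eq_one_of_sq_cube hzz (hcube hk3 hz)
  rw [hz1, mul_one] at hιw
  -- `n` takes `w` into `⟨k⟩`
  have hnw : n * w * n⁻¹ = k ∨ n * w * n⁻¹ = k⁻¹ := by
    have hy : n * w * n⁻¹ ∈ P := (mem_normalizer_iff.1 hnN w).1 hwP
    refine (three_cases hk3 (hinv _ hy ?_)).resolve_left fun e => hw1 (conj_eq_one_iff.1 e)
    rw [show (n * w * n⁻¹)⁻¹ = n * w⁻¹ * n⁻¹ by group, ← hιw, hι]
    group
  -- a rotation of `P`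
  obtain ⟨r, hr⟩ : ∃ r : G, r * r * k * (r * r)⁻¹ = k⁻¹ := by
    have hι' : n * ι * w * (n * ι)⁻¹ = (n * w * n⁻¹)⁻¹ := by
      rw [show n * ι * w * (n * ι)⁻¹ = n * (ι * w * ι⁻¹) * n⁻¹ by group, hιw]; group
    have hι'' : n * ι * k * (n * ι)⁻¹ = n * k * n⁻¹ := by
      rw [show n * ι * k * (n * ι)⁻¹ = n * (ι * k * ι⁻¹) * n⁻¹ by group, hιk.eq,
        mul_inv_cancel_right]
    have hsq : ∀ m : G, m * m * k * (m * m)⁻¹ = m * (m * k * m⁻¹) * m⁻¹ := fun m => by group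
    rcases hnk with e1 | e1 <;> rcases hnw with e2 | e2
    · exact ⟨n * ι, by rw [hsq, hι'', e1, hι', e2]⟩
    · exact ⟨n, by rw [hsq, e1, e2]⟩
    · exact ⟨n, by rw [hsq, e1, ← conj_inv, e2]⟩
    · exact ⟨n * ι, by rw [hsq, hι'', e1, ← conj_inv, hι', e2, inv_inv]⟩
  obtain ⟨e, m, hm, hem⟩ :=
    Nat.exists_eq_pow_mul_and_not_dvd (orderOf_pos r).ne' 2 (by norm_num)
  haveI : Fact (Nat.Prime 2) := ⟨Nat.prime_two⟩
  have hxe : (r ^ m) ^ 2 ^ e = 1 := by rw [← pow_mul, mul_comm, ← hem, pow_orderOf_eq_one]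
  have h1 := h.sq_of_two (isPGroup_zpowers hxe) (mem_zpowers (r ^ m))
  have h2 : (r * r) ^ m = 1 := by rw [(Commute.refl r).mul_pow]; exact h1
  obtain ⟨j, hj⟩ : Odd m := Nat.odd_iff.2 (by omega)
  have h3 : Commute (r * r * (r * r)) k := by
    refine mul_inv_eq_iff_eq_mul.1 ?_
    rw [show r * r * (r * r) * k * (r * r * (r * r))⁻¹
      = r * r * (r * r * k * (r * r)⁻¹) * (r * r)⁻¹ by group, hr, ← conj_inv, hr, inv_inv]
  have h4 : r * r = ((r * r * (r * r)) ^ j)⁻¹ := by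
    refine eq_inv_of_mul_eq_one_right ?_
    rw [← pow_two (r * r), ← pow_mul, ← pow_succ, ← hj, h2]
  have h5 : Commute (r * r) k := h4 ▸ (h3.pow_left j).inv_left
  rw [h5.eq, mul_inv_cancel_right] at hr
  exact hk1 (eq_one_of_sq_cube (eq_inv_iff_mul_eq_one.1 hr) hk3)

/-- **A torus of order three is impossible.** -/
theorem false_of_torus_three (h : H29.Ward.Hyp G F t) {v : G} (hv : v * v = 1) (hv1 : v ≠ 1)
    (hvt : Commute v t) (hne : v ≠ t) (h3 : Nat.card ↥(torusK t v) = 3) : False := by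
  refine false_of_three h ?_
  obtain ⟨-, -, -, e3, e5⟩ := h.torusK_facts hv hv1 hvt hne
  rcases h.mod_eight with e | e
  · left; have := e3 e; omega
  · right; have := e5 e; omega

end Main

end Cfsg.Agent.H35.Ward
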